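import Cfsg.Agent.H95.SympSwap

/-!
Symplectic groups `Sp_2m`, `m ≥ 5`: decomp stabilisers are maximal.
-/

set_option autoImplicit false
open Cfsg

namespace Cfsg.Agent.H98.SmallSymp.Decomp


open scoped MatrixGroups Matrix
open Matrix Cfsg.Agent.H95

/-- The maximality, for `m ≥ 5`. -/
theorem maximal {F : Type*} [Field F] [Fintype F] (m : ℕ) (hm : 5 ≤ m) {t : ℕ} (k : ℕ) (D : Fin t → Submodule F (Fin m ⊕ Fin m → F)) (hD : Cfsg.Geo.IsNondegenerateMDecomposition (Cfsg.sympForm m F) k D) (hex : ¬ (k = 2 ∧ Fintype.card F = 2)) : Cfsg.Geo.IsMaximalIn (Cfsg.spGL m F) (Cfsg.Geo.decompositionStabilizer D ⊓ Cfsg.spGL m F) := by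
  set f := Cfsg.sympForm m F with hfdef
  have hf : Geo.IsSymplecticForm f := isSymplecticForm_sympForm m
  have hO : OrthDec f D := ⟨fun i => ndOn_of_isNondegenerateOn hf (hD.nondegenerate i),
    fun i j hij u hu v hv => hD.orthogonal i j hij u hu v hv, hD.decomp.iSup_eq_top⟩
  have ht := hD.decomp.two_le
  have hk := hD.decomp.finrank_eq
  set S := Geo.decompositionStabilizer D ⊓ Cfsg.spGL m F with hS
  have hinj : ∀ g : GL (Fin m ⊕ Fin m) F,
      Function.Injective (Matrix.toLin' (g : Matrix (Fin m ⊕ Fin m) (Fin m ⊕ Fin m) F)) := by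
    intro g x y hxy
    simp only [Matrix.toLin'_apply] at hxy
    exact gl_mulVec_injective g hxy
  -- membership in the stabiliser from a permutation
  have hmemS : ∀ g : GL (Fin m ⊕ Fin m) F, g ∈ isoGrp f → ∀ σ : Equiv.Perm (Fin t),
      (∀ i, ∀ x ∈ D i, (g : Matrix (Fin m ⊕ Fin m) (Fin m ⊕ Fin m) F) *ᵥ x ∈ D (σ i)) → g ∈ S := by
    intro g hg σ h
    refine ⟨⟨σ, fun i => ?_⟩, hg⟩
    refine Submodule.eq_of_le_of_finrank_eq ?_ ?_
    · rintro _ ⟨x, hx, rfl⟩
      simpa using h i x hx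
    · rw [← (Submodule.equivMapOfInjective _ (hinj g) (D i)).finrank_eq, hk, hk]
  have hroot : ∀ i, ∀ u ∈ D i, RootIn hf S u := fun i u hu l =>
    hmemS _ (rt_mem_iso hf u l) (Equiv.refl _) fun j x hx => rt_maps_member hf hO hu l j hx
  have hswap : ∀ i j, i ≠ j → ∃ g ∈ S, (∀ x ∈ D i, (g : Matrix (Fin m ⊕ Fin m) (Fin m ⊕ Fin m) F) *ᵥ x ∈ D j) ∧
      (∀ x ∈ D j, (g : Matrix (Fin m ⊕ Fin m) (Fin m ⊕ Fin m) F) *ᵥ x ∈ D i) ∧
      ∀ l, l ≠ i → l ≠ j → ∀ x ∈ D l, (g : Matrix (Fin m ⊕ Fin m) (Fin m ⊕ Fin m) F) *ᵥ x = x := by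
    intro i j hij
    obtain ⟨g, hg, g1, g2, g3⟩ := exists_swap hf (D i) (D j) (hO.nd i) (hO.nd j)
      (hO.orth i j hij) (by rw [hk, hk])
    refine ⟨g, hmemS g hg (Equiv.swap i j) fun l x hx => ?_, g1, g2,
      fun l hli hlj x hx => g3 x (fun u hu => hO.orth l i hli x hx u hu)
        (fun u hu => hO.orth l j hlj x hx u hu)⟩
    rcases eq_or_ne l i with rfl | hli
    · rw [Equiv.swap_apply_left]; exact g1 x hx
    rcases eq_or_ne l j with rfl | hlj
    · rw [Equiv.swap_apply_right]; exact g2 x hx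
    rw [Equiv.swap_apply_of_ne_of_ne hli hlj,
      g3 x (fun u hu => hO.orth l i hli x hx u hu) (fun u hu => hO.orth l j hlj x hx u hu)]
    exact hx
  have hne : ∀ i, D i ≠ ⊥ := fun i h => by
    have := hk i
    rw [h, finrank_bot] at this
    exact (ne_of_gt hD.decomp.pos) this.symm
  refine ⟨lt_of_le_of_ne inf_le_right fun hEq => ?_, ?_⟩
  · have h01 : (⟨0, by omega⟩ : Fin t) ≠ ⟨1, by omega⟩ := by simp
    obtain ⟨a, haD, ha0⟩ := (D ⟨0, by omega⟩).ne_bot_iff.1 (hne _)
    obtain ⟨b, hbD, hb0⟩ := (D ⟨1, by omega⟩).ne_bot_iff.1 (hne _)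
    obtain ⟨x, hxD, hx⟩ := hO.nd _ a haD ha0
    have h : rt hf (a + b) (-1) ∈ S := hEq.symm ▸ rt_mem_iso hf (a + b) (-1)
    obtain ⟨σ, hσ⟩ := h.1
    have h1 : (rt hf (a + b) (-1) : Matrix (Fin m ⊕ Fin m) (Fin m ⊕ Fin m) F) *ᵥ x ∈ D (σ ⟨0, by omega⟩) := by
      rw [← hσ]
      exact ⟨x, hxD, by simp⟩
    rw [rt_mulVec hf, f_add_right hf, hO.orth _ _ h01 x hxD b hbD, add_zero, f_skew hf x a, hx,
      neg_mul_neg, one_mul, one_smul] at h1
    have hxa : x + a ≠ 0 := fun h => by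
      rw [eq_neg_of_add_eq_zero_left h, f_neg_right hf, f_self hf, neg_zero] at hx
      exact zero_ne_one hx
    have p0 : proj hf (hO.nd ⟨0, by omega⟩) (x + (a + b)) = x + a := by
      rw [← add_assoc, proj_add hf, proj_self hf _ ((D _).add_mem hxD haD),
        proj_other hf hO h01.symm hbD, add_zero]
    have p1 : proj hf (hO.nd ⟨1, by omega⟩) (x + (a + b)) = b := by
      rw [← add_assoc, proj_add hf, proj_other hf hO h01 ((D _).add_mem hxD haD),
        proj_self hf _ hbD, zero_add]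
    rcases eq_or_ne (σ ⟨0, by omega⟩) (⟨0, by omega⟩ : Fin t) with he | he
    · exact hb0 (by rw [← p1, proj_other hf hO (fun h => h01 (he.symm.trans h)) h1])
    · exact hxa (by rw [← p0, proj_other hf hO he h1])
  intro M hSM hMS
  by_cases hM : M ≤ S
  · exact Or.inl (le_antisymm hM hSM)
  right
  obtain ⟨g, hgM, hgS⟩ := SetLike.not_le_iff_exists.1 hM
  have hgi : g ∈ isoGrp f := hMS hgM
  have hMroot : ∀ i, ∀ u ∈ D i, RootIn hf M u := fun i u hu l => hSM (hroot i u hu l)
  have hroom : ∀ i, ∀ a ∈ D i, a ≠ 0 → ∃ b ∈ D i, b ≠ 0 ∧ b ≠ a ∧ f a b = 0 := by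
    intro i a ha ha0
    by_cases hc : ∃ c : F, c ≠ 0 ∧ c ≠ 1
    · obtain ⟨c, hc0, hc1⟩ := hc
      refine ⟨c • a, (D i).smul_mem c ha, smul_ne_zero hc0 ha0, fun h => hc1 ?_,
        by rw [f_smul_right hf, f_self hf, mul_zero]⟩
      by_contra hne
      exact ha0 (by
        have : (c - 1) • a = 0 := by rw [sub_smul, one_smul, h, sub_self]
        exact (smul_eq_zero.1 this).resolve_left (sub_ne_zero.2 hne))
    push Not at hc
    have hq : Fintype.card F = 2 := by
      classical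
      have h1 : (Finset.univ : Finset F) = {0, 1} := Finset.ext fun c => by
        simp only [Finset.mem_univ, Finset.mem_insert, Finset.mem_singleton, true_iff]
        exact or_iff_not_imp_left.2 (hc c)
      rw [← Finset.card_univ, h1, Finset.card_pair zero_ne_one]
    have hk2 : k ≠ 2 := fun h => hex ⟨h, hq⟩
    obtain ⟨y, hy, hy1⟩ := hO.nd i a ha ha0
    by_contra hcon
    push Not at hcon
    have hle : D i ≤ Submodule.span F {a, y} := by
      intro x hx
      rw [Submodule.mem_span_pair]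
      have h1 : f a (x - f a x • y) = 0 := by rw [f_sub_right hf, f_smul_right hf, hy1]; ring
      have h2 := hcon (x - f a x • y) ((D i).sub_mem hx ((D i).smul_mem _ hy))
      by_cases h3 : x - f a x • y = 0
      · exact ⟨0, f a x, by rw [zero_smul, zero_add, ← sub_eq_zero.1 h3]⟩
      by_cases h4 : x - f a x • y = a
      · exact ⟨1, f a x, by rw [one_smul]; exact (sub_eq_iff_eq_add.1 h4).symm⟩
      · exact absurd h1 (h2 h3 h4)
    have h1 := Submodule.finrank_mono hle
    classical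
    have h2 : Module.finrank F (Submodule.span F ({a, y} : Set (Fin m ⊕ Fin m → F))) ≤ 2 := by
      have := finrank_span_finset_le_card (R := F) ({a, y} : Finset (Fin m ⊕ Fin m → F))
      rw [Finset.coe_insert, Finset.coe_singleton] at this
      exact this.trans Finset.card_le_two
    have h3 : k ≠ 1 := by
      intro hk1
      have hle1 : Submodule.span F {a} = D i := by
        refine Submodule.eq_of_le_of_finrank_eq ((Submodule.span_singleton_le_iff_mem _ _).2 ha) ?_
        rw [finrank_span_singleton ha0, hk, hk1]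
      obtain ⟨c, rfl⟩ := Submodule.mem_span_singleton.1 (hle1.symm ▸ hy)
      rw [f_smul_right hf, f_self hf, mul_zero] at hy1
      exact zero_ne_one hy1
    have := hk i
    have := hD.decomp.pos
    omega
  -- the property that all two-component vectors on a pair carry roots
  let Two : Fin t → Fin t → Prop := fun i j =>
    ∀ a ∈ D i, ∀ b ∈ D j, a ≠ 0 → b ≠ 0 → RootIn hf M (a + b)
  obtain ⟨i0, j0, hij0, hTwo⟩ : ∃ i j, i ≠ j ∧ Two i j := by
    obtain ⟨l, a, ha, hmix⟩ : ∃ l, ∃ a ∈ D l, ∀ j, (g : Matrix (Fin m ⊕ Fin m) (Fin m ⊕ Fin m) F) *ᵥ a ∉ D j := by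
      by_contra hcon
      push Not at hcon
      have hone : ∀ i, ∃ j, ∀ x ∈ D i, (g : Matrix (Fin m ⊕ Fin m) (Fin m ⊕ Fin m) F) *ᵥ x ∈ D j := by
        intro i
        obtain ⟨a, ha, ha0⟩ := (D i).ne_bot_iff.1 (hne i)
        obtain ⟨j, hj⟩ := hcon i a ha
        refine ⟨j, fun x hx => ?_⟩
        have hga : (g : Matrix (Fin m ⊕ Fin m) (Fin m ⊕ Fin m) F) *ᵥ a ≠ 0 := fun h => ha0 (by
          rw [← inv_mulVec_mulVec g a, h, mulVec_zero])
        obtain ⟨l, hl⟩ := hcon i x hx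
        obtain ⟨r, hr⟩ := hcon i (a + x) ((D i).add_mem ha hx)
        rcases eq_or_ne l j with rfl | hlj
        · exact hl
        rw [mulVec_add] at hr
        have e1 : proj hf (hO.nd j) ((g : Matrix (Fin m ⊕ Fin m) (Fin m ⊕ Fin m) F) *ᵥ a + (g : Matrix (Fin m ⊕ Fin m) (Fin m ⊕ Fin m) F) *ᵥ x) =
            (g : Matrix (Fin m ⊕ Fin m) (Fin m ⊕ Fin m) F) *ᵥ a := by
          rw [proj_add hf, proj_self hf _ hj, proj_other hf hO hlj hl, add_zero]
        rcases eq_or_ne r j with rfl | hrj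
        · simpa using (D r).sub_mem hr hj
        · rw [proj_other hf hO hrj hr] at e1
          exact absurd e1.symm hga
      choose σ hσ using hone
      have hσinj : Function.Injective σ := by
        intro i i' he
        by_contra hii
        have hle : (D i ⊔ D i').map (Matrix.toLin' (g : Matrix (Fin m ⊕ Fin m) (Fin m ⊕ Fin m) F)) ≤ D (σ i) := by
          rw [Submodule.map_sup, sup_le_iff]
          constructor
          · rintro _ ⟨x, hx, rfl⟩; simpa using hσ i x hx
          · rintro _ ⟨x, hx, rfl⟩; simpa [he] using hσ i' x hx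
        have h1 := Submodule.finrank_mono hle
        rw [← (Submodule.equivMapOfInjective _ (hinj g) _).finrank_eq, hk] at h1
        have h2 := Submodule.finrank_sup_add_finrank_inf_eq (D i) (D i')
        have h3 : D i ⊓ D i' = ⊥ := eq_bot_iff.2 fun x hx => dec_inj hf hO hii hx.1 hx.2
        rw [h3, finrank_bot, hk, hk] at h2
        have := hD.decomp.pos
        omega
      exact hgS (hmemS g hgi (Equiv.ofBijective σ (Finite.injective_iff_bijective.1 hσinj)) hσ)
    set u := (g : Matrix (Fin m ⊕ Fin m) (Fin m ⊕ Fin m) F) *ᵥ a with hu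
    have huR : RootIn hf M u := (hMroot l a ha).conj hf hgM hgi
    obtain ⟨i, hi⟩ : ∃ i, proj hf (hO.nd i) u ≠ 0 := by
      by_contra h
      push Not at h
      apply hmix l
      rw [← sum_proj hf hO u, Finset.sum_eq_zero fun i _ => h i]
      exact (D l).zero_mem
    obtain ⟨j, hji, hj⟩ : ∃ j, j ≠ i ∧ proj hf (hO.nd j) u ≠ 0 := by
      by_contra h
      push Not at h
      apply hmix i
      rw [← sum_proj hf hO u, Finset.sum_eq_single i (fun j _ hj => h j hj)
        (fun h => absurd (Finset.mem_univ i) h)]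
      exact proj_mem hf _ u
    obtain ⟨a', ha', b', hb', ha'0, hb'0, hR⟩ :=
      rootIn_two_of_many hf hO hMroot hroom huR hji.symm hi hj
    refine ⟨i, j, hji.symm, fun x hx y hy hx0 hy0 => ?_⟩
    have q1 : proj hf (hO.nd i) (a' + b') = a' := by
      rw [proj_add hf, proj_self hf _ ha', proj_other hf hO hji hb', add_zero]
    have h1 := rootIn_replace hf hO hMroot hR i (q1.symm ▸ ha'0) hx hx0
    rw [q1, add_sub_cancel_left] at h1
    have q2 : proj hf (hO.nd j) (b' + x) = b' := by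
      rw [proj_add hf, proj_self hf _ hb', proj_other hf hO hji.symm hx, add_zero]
    have h2 := rootIn_replace hf hO hMroot h1 j (q2.symm ▸ hb'0) hy hy0
    rw [q2, add_sub_cancel_left] at h2
    exact h2
  have hsymm : ∀ i j, Two i j → Two j i := fun i j h a ha b hb ha0 hb0 => by
    rw [add_comm]; exact h b hb a ha hb0 ha0
  have hshift : ∀ i j c, i ≠ j → c ≠ j → Two i j → Two c j := by
    intro i j c hij hcj h
    rcases eq_or_ne i c with rfl | hic
    · exact h
    obtain ⟨s, hs, s1, s2, s3⟩ := hswap c i (Ne.symm hic)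
    intro a ha b hb ha0 hb0
    have hsa : (s : Matrix (Fin m ⊕ Fin m) (Fin m ⊕ Fin m) F) *ᵥ a ∈ D i := s1 a ha
    have hsa0 : (s : Matrix (Fin m ⊕ Fin m) (Fin m ⊕ Fin m) F) *ᵥ a ≠ 0 := fun h => ha0 (by
      rw [← inv_mulVec_mulVec s a, h, mulVec_zero])
    have hr := (h _ hsa b hb hsa0 hb0).conj hf (M.inv_mem (hSM hs)) (Subgroup.inv_mem _ hs.2)
    rw [mulVec_add, inv_mulVec_mulVec] at hr
    have hsb : ((s⁻¹ : GL (Fin m ⊕ Fin m) F) : Matrix (Fin m ⊕ Fin m) (Fin m ⊕ Fin m) F) *ᵥ b = b := by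
      conv_lhs => rw [← s3 j hcj.symm hij.symm b hb, inv_mulVec_mulVec]
    rwa [hsb] at hr
  refine le_antisymm hMS ?_
  rw [spGL_eq_isoGrp]
  refine iso_le_of_roots hf (rootIn_all hf hO hMroot ?_)
  intro x y hxy
  show Two x y
  rcases eq_or_ne x j0 with rfl | hxj
  · rcases eq_or_ne y i0 with rfl | hyi
    · exact hsymm _ _ hTwo
    · exact hsymm _ _ (hshift i0 x y hij0 hxy.symm hTwo)
  · have h1 := hshift i0 j0 x hij0 hxj hTwo
    rcases eq_or_ne y j0 with rfl | hyj
    · exact h1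
    · exact hsymm _ _ (hshift j0 x y hxj.symm hxy.symm (hsymm _ _ h1))

end Cfsg.Agent.H98.SmallSymp.Decomp
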