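import Cfsg.Agent.H95.SympDecomp

/-!
Symplectic groups `Sp_2m`, `m ≥ 5`: nondeg stabilisers are maximal.
-/

set_option autoImplicit false
open Cfsg

namespace Cfsg.Agent.H98.SmallSymp.Nondeg


open scoped MatrixGroups Matrix
open Matrix Cfsg.Agent.H95

/-- The maximality, for `m ≥ 5`. -/
theorem maximal {F : Type*} [Field F] [Fintype F] (m : ℕ) (hm : 5 ≤ m) (W : Submodule F (Fin m ⊕ Fin m → F)) (hW0 : W ≠ ⊥) (hW : Cfsg.Geo.IsNondegenerateOn (Cfsg.sympForm m F) W) (hdim : Module.finrank F W < m) : Cfsg.Geo.IsMaximalIn (Cfsg.spGL m F) (Cfsg.Geo.subspaceStabilizer W ⊓ Cfsg.spGL m F) := by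
  set f := Cfsg.sympForm m F with hfdef
  have hf : Geo.IsSymplecticForm f := isSymplecticForm_sympForm m
  have hndW : NdOn f W := ndOn_of_isNondegenerateOn hf hW
  set W' := perpOf hf W with hW'
  have hndW' : NdOn f W' := ndOn_perpOf hf hndW
  have hortho : ∀ u ∈ W, ∀ v ∈ W', f u v = 0 := fun u hu v hv => f_symm_zero hf (hv u hu)
  have hD : OrthDec f ![W, W'] := by
    refine ⟨fun i => ?_, fun i j hij u hu v hv => ?_, ?_⟩
    · fin_cases i <;> assumption
    · fin_cases i <;> fin_cases j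
      · exact absurd rfl hij
      · exact hortho u hu v hv
      · exact f_symm_zero hf (hortho v hv u hu)
      · exact absurd rfl hij
    · rw [eq_top_iff]
      intro x _
      rw [← sub_add_cancel x (proj hf hndW x)]
      exact Submodule.add_mem _ (Submodule.mem_iSup_of_mem 1 fun u hu => proj_orth hf hndW x hu)
        (Submodule.mem_iSup_of_mem 0 (proj_mem hf hndW x))
  have hinf : W ⊓ W' = ⊥ := by
    rw [eq_bot_iff]
    rintro x ⟨hx1, hx2⟩
    exact dec_inj hf hD (i := 0) (j := 1) (by decide) hx1 hx2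
  have hsup : W ⊔ W' = ⊤ := by
    rw [eq_top_iff]
    intro x _
    rw [← sub_add_cancel x (proj hf hndW x)]
    exact Submodule.add_mem _ (Submodule.mem_sup_right fun u hu => proj_orth hf hndW x hu)
      (Submodule.mem_sup_left (proj_mem hf hndW x))
  have hdimW : Module.finrank F W + Module.finrank F W' = 2 * m := by
    have := Submodule.finrank_sup_add_finrank_inf_eq W W'
    rw [hinf, hsup, finrank_top, finrank_bot, Module.finrank_fintype_fun_eq_card] at this
    simp at this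
    omega
  set S := Geo.subspaceStabilizer W ⊓ Cfsg.spGL m F with hS
  have hroot : ∀ i, ∀ u ∈ ![W, W'] i, RootIn hf S u := fun i u hu l =>
    ⟨mem_stab_of_forward fun x hx => rt_maps_member hf hD (i := i) hu l 0 hx, rt_mem_iso hf u l⟩
  have hW'0 : W' ≠ ⊥ := by
    intro h
    rw [h, finrank_bot] at hdimW
    omega
  refine ⟨lt_of_le_of_ne inf_le_right fun hEq => ?_, ?_⟩
  · obtain ⟨a, haW, ha0⟩ := W.ne_bot_iff.1 hW0
    obtain ⟨b, hbW, hb0⟩ := W'.ne_bot_iff.1 hW'0
    obtain ⟨x, hxW, hx⟩ := hndW a haW ha0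
    have h : rt hf (a + b) 1 ∈ S := hEq.symm ▸ rt_mem_iso hf (a + b) 1
    have h1 := (mem_subspaceStabilizer.1 h.1 x).1 hxW
    rw [rt_mulVec hf, one_mul, f_add_right hf, hortho x hxW b hbW, add_zero, f_skew hf x a, hx] at h1
    have h2 : b ∈ W := by
      have := W.sub_mem (W.sub_mem hxW h1) haW
      simpa using this
    have h3 : b ∈ W ⊓ W' := ⟨h2, hbW⟩
    rw [hinf, Submodule.mem_bot] at h3
    exact hb0 h3
  intro M hSM hMS
  by_cases hM : M ≤ S
  · exact Or.inl (le_antisymm hM hSM)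
  right
  obtain ⟨g, hgM, hgS⟩ := SetLike.not_le_iff_exists.1 hM
  have hgi : g ∈ isoGrp f := hMS hgM
  have hMroot : ∀ i, ∀ u ∈ ![W, W'] i, RootIn hf M u := fun i u hu l => hSM (hroot i u hu l)
  -- some root vector outside `W ∪ W'`
  obtain ⟨u, huR, huW, huW'⟩ : ∃ u, RootIn hf M u ∧ u ∉ W ∧ u ∉ W' := by
    by_contra hcon
    push Not at hcon
    have him : ∀ i, ∀ a ∈ ![W, W'] i, (g : Matrix (Fin m ⊕ Fin m) (Fin m ⊕ Fin m) F) *ᵥ a ∈ W ∨ (g : Matrix (Fin m ⊕ Fin m) (Fin m ⊕ Fin m) F) *ᵥ a ∈ W' :=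
      fun i a ha => or_iff_not_imp_left.2 (hcon _ ((hMroot i a ha).conj hf hgM hgi))
    have hone : ∀ i, (∀ a ∈ ![W, W'] i, (g : Matrix (Fin m ⊕ Fin m) (Fin m ⊕ Fin m) F) *ᵥ a ∈ W) ∨
        (∀ a ∈ ![W, W'] i, (g : Matrix (Fin m ⊕ Fin m) (Fin m ⊕ Fin m) F) *ᵥ a ∈ W') := by
      intro i
      by_contra hh
      push Not at hh
      obtain ⟨⟨a, ha, ha'⟩, b, hb, hb'⟩ := hh
      have haW' := (him i a ha).resolve_left ha'
      have hbW := (him i b hb).resolve_right hb'
      rcases him i (a + b) (Submodule.add_mem _ ha hb) with h | h <;> rw [mulVec_add] at h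
      · exact ha' (by simpa using W.sub_mem h hbW)
      · exact hb' (by simpa using W'.sub_mem h haW')
    rcases hone 0 with h0 | h0
    · exact hgS ⟨mem_stab_of_forward h0, hgi⟩
    have hle : ∀ A B : Submodule F (Fin m ⊕ Fin m → F),
        (∀ a ∈ A, (g : Matrix (Fin m ⊕ Fin m) (Fin m ⊕ Fin m) F) *ᵥ a ∈ B) → Module.finrank F A ≤ Module.finrank F B := by
      intro A B h
      have hinj : Function.Injective (Matrix.toLin' (g : Matrix (Fin m ⊕ Fin m) (Fin m ⊕ Fin m) F)) := by
        intro x y hxy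
        simp only [Matrix.toLin'_apply] at hxy
        exact gl_mulVec_injective g hxy
      rw [(Submodule.equivMapOfInjective _ hinj A).finrank_eq]
      refine Submodule.finrank_mono ?_
      rintro _ ⟨a, ha, rfl⟩
      simpa using h a ha
    rcases hone 1 with h1 | h1
    · have := hle W' W h1
      omega
    · have := hle ⊤ W' (fun a _ => by
        rw [← sum_proj hf hD a, Fin.sum_univ_two, mulVec_add]
        exact W'.add_mem (h0 _ (proj_mem hf _ a)) (h1 _ (proj_mem hf _ a)))
      rw [finrank_top, Module.finrank_fintype_fun_eq_card] at this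
      simp at this
      have hpos := Submodule.one_le_finrank_iff.2 hW0
      omega
  refine le_antisymm hMS ?_
  rw [spGL_eq_isoGrp]
  refine iso_le_of_roots hf (rootIn_all hf hD hMroot ?_)
  have hsum := sum_proj hf hD u
  rw [Fin.sum_univ_two] at hsum
  have hp0 : proj hf (hD.nd 0) u ≠ 0 := fun h => huW' (by
    rw [← hsum, h, zero_add]; exact proj_mem hf (hD.nd 1) u)
  have hp1 : proj hf (hD.nd 1) u ≠ 0 := fun h => huW (by
    rw [← hsum, h, add_zero]; exact proj_mem hf (hD.nd 0) u)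
  have key : ∀ a ∈ W, ∀ b ∈ W', a ≠ 0 → b ≠ 0 → RootIn hf M (a + b) := by
    intro a ha b hb ha0 hb0
    have h1 := rootIn_replace hf hD hMroot huR 0 hp0 (b := a) ha ha0
    have h01 : (0 : Fin 2) ≠ 1 := by decide
    have h2 : proj hf (hD.nd 1) (u - proj hf (hD.nd 0) u + a) = proj hf (hD.nd 1) u := by
      rw [proj_add hf, proj_sub hf, proj_other hf hD h01 (proj_mem hf _ u),
        proj_other hf hD h01 (x := a) ha, sub_zero, add_zero]
    have h3 := rootIn_replace hf hD hMroot h1 1 (h2.symm ▸ hp1) (b := b) hb hb0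
    rw [h2] at h3
    convert h3 using 1
    conv_rhs => rw [show u - proj hf (hD.nd 0) u + a - proj hf (hD.nd 1) u + b =
      u - (proj hf (hD.nd 0) u + proj hf (hD.nd 1) u) + (a + b) by abel, hsum, sub_self, zero_add]
  intro i j hij a ha b hb ha0 hb0
  fin_cases i <;> fin_cases j
  · exact absurd rfl hij
  · exact key a ha b hb ha0 hb0
  · rw [add_comm]; exact key b hb a ha hb0 ha0
  · exact absurd rfl hij

end Cfsg.Agent.H98.SmallSymp.Nondeg
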