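import Cfsg.Agent.S5649

/-!
Symplectic groups `Sp_2m`, `m ≥ 5`: polarisation stabilisers are maximal.
-/

set_option autoImplicit false
open Cfsg

namespace Cfsg.Agent.H98.SmallSymp.Polarisation

open Cfsg.Agent.S5649
open scoped MatrixGroups Matrix
open Matrix Cfsg.Agent.H95 Cfsg.Agent.Symplectic

theorem maximal {F : Type*} [Field F] [Fintype F] (m : ℕ) (hm : 5 ≤ m) (hodd : Odd (Fintype.card F)) (D : Fin 2 → Submodule F (Fin m ⊕ Fin m → F)) (hD : Cfsg.Geo.IsMDecomposition m D) (hts : ∀ i, Cfsg.Geo.IsTotallySingularFor (Cfsg.sympForm m F) (D i)) : Cfsg.Geo.IsMaximalIn (Cfsg.spGL m F) (Cfsg.Geo.decompositionStabilizer D ⊓ Cfsg.spGL m F) := by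
  have h2 : (2 : F) ≠ 0 := Ring.two_ne_zero ((FiniteField.even_card_iff_char_two (F := F)).not.2
    (Nat.mod_two_ne_zero.2 (Nat.odd_iff.1 hodd)))
  rw [spGL_eq_isoGrp]
  exact main h2 (by omega) (by simp; omega) (isSymplecticForm_sympForm m) D hD hts

end Cfsg.Agent.H98.SmallSymp.Polarisation
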