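import Cfsg.Agent.H95.Symp

/-!
Symplectic groups `Sp_2m`, `m ≥ 5`: quadratic stabilisers are maximal.
-/

set_option autoImplicit false
open Cfsg

namespace Cfsg.Agent.H98.SmallSymp.Quadratic


open scoped MatrixGroups Matrix
open Matrix Cfsg.Agent.H95

variable {ι : Type} [Fintype ι] [DecidableEq ι] {F : Type*} [Field F]
  {f : (ι → F) → (ι → F) → F}

lemma two_finrank_le (hf : Geo.IsSymplecticForm f) (K : Submodule F (ι → F))
    (h : ∀ x ∈ K, ∀ y ∈ K, f x y = 0) : 2 * Module.finrank F K ≤ Fintype.card ι := by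
  let R : (ι → F) →ₗ[F] Module.Dual F K :=
    { toFun := fun z =>
        { toFun := fun k => f k z
          map_add' := fun a b => f_add_left hf _ _ _
          map_smul' := fun c a => f_smul_left hf c _ _ }
      map_add' := fun a b => LinearMap.ext fun k => f_add_right hf _ a b
      map_smul' := fun c a => LinearMap.ext fun k => f_smul_right hf c _ a }
  have hker : K ≤ LinearMap.ker R := fun x hx => LinearMap.mem_ker.2
    (LinearMap.ext fun k => h k k.2 x hx)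
  have hsurj : LinearMap.range R = ⊤ := by
    rw [LinearMap.range_eq_top]
    intro ψ
    obtain ⟨Ψ, hΨ⟩ := ψ.exists_extend
    obtain ⟨c, hc⟩ := exists_dv hf (fun j => Ψ (Pi.single j 1))
    refine ⟨c, LinearMap.ext fun k => ?_⟩
    show f k c = ψ k
    rw [← hΨ, LinearMap.comp_apply, Submodule.subtype_apply, ← dv_dot hf, hc]
    conv_rhs => rw [pi_eq_sum_univ' (k : ι → F), map_sum]
    simp [dotProduct, mul_comm]
  have h1 := LinearMap.finrank_range_add_finrank_ker R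
  rw [hsurj, finrank_top, Subspace.dual_finrank_eq, Module.finrank_fintype_fun_eq_card] at h1
  have h2 := Submodule.finrank_mono hker
  omega

lemma exists_aniso (hf : Geo.IsSymplecticForm f) (hn : 8 ≤ Fintype.card ι) {Q : (ι → F) → F}
    (hpol : ∀ u v, QuadraticMap.polar Q u v = f u v) (a b c : ι → F) :
    ∃ y, f a y = 0 ∧ f b y = 0 ∧ f c y = 0 ∧ Q y ≠ 0 := by
  let L : (ι → F) →ₗ[F] (Fin 3 → F) :=
    { toFun := fun y => ![f a y, f b y, f c y]
      map_add' := fun y z => by ext i; fin_cases i <;> simp [f_add_right hf]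
      map_smul' := fun t y => by ext i; fin_cases i <;> simp [f_smul_right hf] }
  by_contra hcon
  push Not at hcon
  have hz : ∀ y ∈ LinearMap.ker L, Q y = 0 := by
    intro y hy
    rw [LinearMap.mem_ker] at hy
    exact hcon y (congrFun hy 0) (congrFun hy 1) (congrFun hy 2)
  have hiso := two_finrank_le hf (LinearMap.ker L) (fun x hx y hy => by
    rw [← hpol, QuadraticMap.polar, hz x hx, hz y hy, hz _ (Submodule.add_mem _ hx hy), sub_zero,
      sub_zero])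
  have h1 := LinearMap.finrank_range_add_finrank_ker L
  have h2 := Submodule.finrank_le (LinearMap.range L)
  rw [Module.finrank_fintype_fun_eq_card] at h1
  rw [Module.finrank_fin_fun] at h2
  omega

/-- The maximality, for `m ≥ 5`. -/
theorem maximal {F : Type*} [Field F] [Fintype F] (m : ℕ) (hm : 5 ≤ m) (heven : ¬ Odd (Fintype.card F)) (Q : (Fin m ⊕ Fin m → F) → F) (hQ : Cfsg.Geo.IsNondegenerateQuadraticForm Q) (hpol : ∀ u v, QuadraticMap.polar Q u v = Cfsg.sympForm m F u v) : Cfsg.Geo.IsMaximalIn (Cfsg.spGL m F) (Cfsg.Geo.quadSimilarityGroup Q ⊓ Cfsg.spGL m F) := by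
  set f := Cfsg.sympForm m F with hfdef
  have hf : Geo.IsSymplecticForm f := isSymplecticForm_sympForm m
  have hn : 8 ≤ Fintype.card (Fin m ⊕ Fin m) := by simp; omega
  have hchar : ringChar F = 2 := by
    by_contra h
    exact heven (Nat.odd_iff.2 (FiniteField.odd_card_of_char_ne_two h))
  have : CharP F 2 := hchar ▸ ringChar.charP F
  have hsq : ∀ x : F, ∃ c : F, c ^ 2 = x := fun x => by
    obtain ⟨c, hc⟩ := FiniteField.isSquare_of_char_two hchar x
    exact ⟨c, by rw [hc, sq]⟩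
  have hQadd : ∀ x y, Q (x + y) = Q x + Q y + f x y := fun x y => by
    rw [← hpol, QuadraticMap.polar]; ring
  have hQT : ∀ u x, Q ((rt hf u 1 : Matrix (Fin m ⊕ Fin m) (Fin m ⊕ Fin m) F) *ᵥ x) =
      Q x + f x u ^ 2 * (Q u + 1) := by
    intro u x
    rw [rt_mulVec hf, one_mul, hQadd, hQ.smul, f_smul_right hf]
    ring
  set O := Geo.quadSimilarityGroup Q ⊓ Cfsg.spGL m F with hO
  have hmemO : ∀ g, g ∈ O ↔ g ∈ isoGrp f ∧
      ∀ v, Q ((g : Matrix (Fin m ⊕ Fin m) (Fin m ⊕ Fin m) F) *ᵥ v) = Q v := by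
    intro g
    constructor
    · rintro ⟨⟨c, hc⟩, hg⟩
      refine ⟨hg, fun v => ?_⟩
      rw [hc]
      have hc1 : (c : F) = 1 := by
        obtain ⟨a, ha⟩ : ∃ a : Fin m ⊕ Fin m → F, a ≠ 0 := ⟨Pi.single (.inl ⟨0, by omega⟩) 1, by simp⟩
        obtain ⟨x, hx⟩ := exists_f_eq_one hf ha
        have e : f ((g : Matrix (Fin m ⊕ Fin m) (Fin m ⊕ Fin m) F) *ᵥ a)
            ((g : Matrix (Fin m ⊕ Fin m) (Fin m ⊕ Fin m) F) *ᵥ x) = (c : F) * f a x := by
          rw [← hpol, ← hpol, QuadraticMap.polar, QuadraticMap.polar, ← mulVec_add, hc, hc, hc]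
          ring
        rw [(mem_isoGrp (f := f)).1 hg, hx, mul_one] at e
        exact e.symm
      rw [hc1, one_mul]
    · rintro ⟨hg, h⟩
      exact ⟨⟨1, fun v => by rw [h]; simp⟩, hg⟩
  have hTO : ∀ u, Q u = 1 → rt hf u 1 ∈ O := fun u hu =>
    (hmemO _).2 ⟨rt_mem_iso hf u 1, fun x => by rw [hQT, hu, CharTwo.add_self_eq_zero]; simp⟩
  have hQ0 : Q 0 = 0 := by simpa using hQ.smul 0 0
  -- choose a vector with given value of `Q`
  have hsol : ∀ a b z₀ : Fin m ⊕ Fin m → F, ∀ s : F,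
      ∃ z, f a z = f a z₀ ∧ f b z = f b z₀ ∧ Q z = s := by
    intro a b z₀ s
    obtain ⟨y, hy1, hy2, hy3, hy4⟩ := exists_aniso hf hn hpol a b z₀
    obtain ⟨c, hc⟩ := hsq ((s - Q z₀) / Q y)
    refine ⟨z₀ + c • y, by rw [f_add_right hf, f_smul_right hf, hy1]; ring,
      by rw [f_add_right hf, f_smul_right hf, hy2]; ring, ?_⟩
    rw [hQadd, hQ.smul, f_smul_right hf, hy3, hc, div_mul_cancel₀ _ hy4]
    ring
  refine ⟨lt_of_le_of_ne inf_le_right ?_, ?_⟩
  · intro hEq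
    obtain ⟨u, hu1, -, huQ⟩ := hsol (Pi.single (.inl ⟨0, by omega⟩) 1) 0
      (Pi.single (.inr ⟨0, by omega⟩) 1) 0
    have hu : u ≠ 0 := by
      rintro rfl
      rw [f_zero_right hf, hfdef, sympForm_eq] at hu1
      simp [Pi.single_apply] at hu1
    obtain ⟨x, hx⟩ := exists_f_eq_one hf hu
    have h1 : rt hf u 1 ∈ O := hEq.symm ▸ rt_mem_iso hf u 1
    have h2 := ((hmemO _).1 h1).2 x
    rw [hQT, huQ, f_skew hf x u, hx] at h2
    simp at h2
  intro M hOM hMS
  by_cases hMO : M ≤ O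
  · exact Or.inl (le_antisymm hMO hOM)
  right
  obtain ⟨g, hgM, hgO⟩ := SetLike.not_le_iff_exists.1 hMO
  have hgi : g ∈ isoGrp f := hMS hgM
  set Y : Set (Fin m ⊕ Fin m → F) := {u | rt hf u 1 ∈ M} with hY
  have hY1 : ∀ u, Q u = 1 → u ∈ Y := fun u hu => hOM (hTO u hu)
  have hYc : ∀ h ∈ M, ∀ u ∈ Y, (h : Matrix (Fin m ⊕ Fin m) (Fin m ⊕ Fin m) F) *ᵥ u ∈ Y := by
    intro h hh u hu
    show rt hf _ 1 ∈ M
    rw [← conj_rt hf (hMS hh)]
    exact M.mul_mem (M.mul_mem hh hu) (M.inv_mem hh)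
  have hYs : ∀ u ∈ Y, ∀ v ∈ Y, u + f u v • v ∈ Y := by
    intro u hu v hv
    have := hYc _ hv u hu
    rwa [rt_mulVec hf, one_mul] at this
  -- transitivity on the level sets
  have hmove : ∀ w ∈ Y, ∀ w', f w w' ≠ 0 → Q w' = Q w → w' ∈ Y := by
    intro w hw w' hww hQw
    obtain ⟨c, hc⟩ := hsq (f w w')⁻¹
    have hd : Q (w + w') = f w w' := by
      rw [hQadd, hQw, CharTwo.add_self_eq_zero, zero_add]
    have hu : Q (c • (w + w')) = 1 := by rw [hQ.smul, hd, hc, inv_mul_cancel₀ hww]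
    have := hYc _ (hY1 _ hu) w hw
    have hsw : w + w' = w' - w := funext fun i => by
      simp [CharTwo.sub_eq_add, add_comm]
    rwa [rt_smul_vec hf, one_mul, hc, hsw, rt_move hf hww] at this
  have htrans : ∀ w ∈ Y, w ≠ 0 → ∀ w', w' ≠ 0 → Q w' = Q w → w' ∈ Y := by
    intro w hw hw0 w' hw0' hQw
    obtain ⟨z₀, h1, h2⟩ := exists_common_nonorth hf hw0 hw0'
    obtain ⟨z, hz1, hz2, hz3⟩ := hsol w w' z₀ (Q w)
    exact hmove z (hmove w hw z (hz1 ▸ h1) hz3) w' (f_symm_ne hf (hz2 ▸ h2)) (by rw [hQw, hz3])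
  obtain ⟨u₀, hu₀, hgu₀⟩ : ∃ u, Q u = 1 ∧
      Q ((g : Matrix (Fin m ⊕ Fin m) (Fin m ⊕ Fin m) F) *ᵥ u) ≠ 1 := by
    by_contra hcon
    push Not at hcon
    apply hgO
    refine (hmemO g).2 ⟨hgi, ?_⟩
    have h1 : ∀ v, Q v ≠ 0 → Q ((g : Matrix (Fin m ⊕ Fin m) (Fin m ⊕ Fin m) F) *ᵥ v) = Q v := by
      intro v hv
      obtain ⟨c, hc⟩ := hsq (Q v)⁻¹
      have h2 := hcon (c • v) (by rw [hQ.smul, hc, inv_mul_cancel₀ hv])
      rw [mulVec_smul, hQ.smul, hc, inv_mul_eq_one₀ hv] at h2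
      exact h2.symm
    intro v
    by_cases hv : Q v = 0
    · rcases eq_or_ne v 0 with rfl | hv0
      · rw [mulVec_zero]
      obtain ⟨x, hx⟩ := exists_f_eq_one hf hv0
      obtain ⟨z, hz1, -, hz3⟩ := hsol v 0 x 1
      rw [hx] at hz1
      obtain ⟨y, hy1, -, -, hy4⟩ := exists_aniso hf hn hpol v v v
      obtain ⟨c, hc⟩ := hsq (1 / Q y)
      have a1 : Q (c • y) = 1 := by rw [hQ.smul, hc, one_div_mul_cancel hy4]
      have a2 : Q (v + c • y) = 1 := by rw [hQadd, hv, a1, f_smul_right hf, hy1]; ring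
      have a3 := hcon _ a2
      rw [mulVec_add, hQadd, hcon _ a1, mem_isoGrp.1 hgi, f_smul_right hf, hy1] at a3
      rw [hv]
      linear_combination a3
    · exact h1 v hv
  set w₀ := (g : Matrix (Fin m ⊕ Fin m) (Fin m ⊕ Fin m) F) *ᵥ u₀ with hw₀
  have hw₀Y : w₀ ∈ Y := hYc g hgM u₀ (hY1 u₀ hu₀)
  have hw₀0 : w₀ ≠ 0 := by
    intro h
    have : u₀ = 0 := by rw [← inv_mulVec_mulVec g u₀, ← hw₀, h, mulVec_zero]
    rw [this, hQ0] at hu₀
    exact zero_ne_one hu₀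
  have hall : ∀ v, v ∈ Y := by
    intro v
    rcases eq_or_ne v 0 with rfl | hv0
    · exact rootIn_zero hf M 1
    by_cases hv1 : Q v = 1
    · exact hY1 v hv1
    have ht : Q w₀ + 1 ≠ 0 := fun h => hgu₀ (by rwa [CharTwo.add_eq_zero] at h)
    obtain ⟨r, hr⟩ := hsq ((Q v + 1) / (Q w₀ + 1))
    have hr0 : r ≠ 0 := by
      rintro rfl
      rw [zero_pow two_ne_zero, eq_comm, div_eq_zero_iff] at hr
      rcases hr with h | h
      · exact hv1 (CharTwo.add_eq_zero.1 h)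
      · exact ht h
    obtain ⟨u, -, -, hu⟩ := hsol 0 0 0 1
    have hu0 : u ≠ 0 := by rintro rfl; exact zero_ne_one (hQ0 ▸ hu)
    obtain ⟨x, hx⟩ := exists_f_eq_one hf hu0
    obtain ⟨w, hw1, -, hw3⟩ := hsol u 0 (r • x) (Q w₀)
    rw [f_smul_right hf, hx, mul_one] at hw1
    have hw0 : w ≠ 0 := by rintro rfl; exact hr0 (hw1.symm.trans (f_zero_right hf u))
    have hwY : w ∈ Y := htrans w₀ hw₀Y hw₀0 w hw0 hw3
    have hv' : u + f u w • w ∈ Y := hYs u (hY1 u hu) w hwY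
    have hQv : Q (u + f u w • w) = Q v := by
      rw [hQadd, hu, hQ.smul, f_smul_right hf, hw1, hw3,
        show 1 + r ^ 2 * Q w₀ + r * r = 1 + r ^ 2 * (Q w₀ + 1) by ring, hr, div_mul_cancel₀ _ ht,
        ← add_assoc, add_comm 1 (Q v), add_assoc, CharTwo.add_self_eq_zero, add_zero]
    refine htrans _ hv' ?_ v hv0 hQv.symm
    intro h
    have := congrArg (fun z => f z w) h
    simp only [f_add_left hf, f_smul_left hf, f_self hf, f_zero_left hf, mul_zero, add_zero] at this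
    exact hr0 (hw1.symm.trans this)
  refine le_antisymm hMS ?_
  rw [spGL_eq_isoGrp]
  refine iso_le_of_roots hf fun u l => ?_
  obtain ⟨c, hc⟩ := hsq l
  have := hall (c • u)
  rwa [hY, Set.mem_ofPred_eq, rt_smul_vec hf, one_mul, hc] at this

end Cfsg.Agent.H98.SmallSymp.Quadratic
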