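import Cfsg.Agent.S5650

/-!
Symplectic groups `Sp_2m`, `m ≥ 5`: subfield stabilisers are maximal.
-/

set_option autoImplicit false
open Cfsg

namespace Cfsg.Agent.H98.SmallSymp.Subfield

open Cfsg.Agent.S5650
open scoped MatrixGroups Matrix
open Matrix Cfsg.Agent.H95 Cfsg.Agent.Symplectic

theorem maximal {F : Type*} [Field F] [Fintype F] (m : ℕ) (hm : 5 ≤ m) (F₀ : Subfield F) (r : ℕ) (hr : r.Prime) (hcard : Fintype.card F = Nat.card F₀ ^ r) (P : Matrix.GeneralLinearGroup (Fin m ⊕ Fin m) F) (ζ : F) (hζ : ζ ≠ 0) (hP : Cfsg.Geo.IsFormRationalStructure (Cfsg.sympForm m F) F₀ ζ P) : Cfsg.Geo.IsMaximalIn (Cfsg.spGL m F) (Cfsg.Geo.subfieldSubgroup F₀ P ⊓ Cfsg.spGL m F) := by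
  have hiso : Cfsg.spGL m F = isoGrp fun u v => ζ * Cfsg.sympForm m F u v := by
    ext g
    rw [spGL_eq_isoGrp, mem_isoGrp, mem_isoGrp]
    exact forall₂_congr fun u v => (mul_right_inj' hζ).symm
  rw [hiso]
  exact main (by simp; omega) F₀ r hr hcard P (smul_symp (isSymplecticForm_sympForm m) hζ) hP

end Cfsg.Agent.H98.SmallSymp.Subfield
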